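import Cfsg.Agent.Lib.Recog.FiM22Two.UniqueM23
import Cfsg.Agent.Lib.Recog.FiM22.Factor.Top

set_option autoImplicit false
set_option maxRecDepth 20000

/-!
Involutions of a group of type M(23): each is a product of one, two or three commuting members (owner: helper20).
-/

namespace CfsgLib.LocalEvenB.M23

open Cfsg CfsgLib.ThreeTrans CfsgLib.Recog.FiM22.Factor CfsgLib.Recog.FiM22Two

universe u

variable {G : Type u} [Group G] [Finite G] {D : Set G} {d : G}

/-- There are no relations of length three to six. -/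
theorem noRel (S : Sec22 D d) {k : ℕ} (h3 : 3 ≤ k) (h6 : k ≤ 6) : NoRel D k := by
  obtain ⟨a, b, ⟨P⟩⟩ := exists_pre S.type (secGrp S.setting.grp)
  obtain ⟨j, rfl⟩ : ∃ j, k = j + 1 := ⟨k - 1, by omega⟩
  refine noRel_succ ⟨S.setting.grp, fun a ha b hb => class_trans S.setting.cls ha hb⟩ S.mem S.non ?_
  rcases Nat.lt_or_ge j 3 with h | h
  · obtain rfl : j = 2 := by omega
    exact noRel_two (secGrp S.setting.grp).1
  · exact P.noRel h (by omega)

/-- Every commuting triple of the section lies in six with product one. -/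
theorem six_through (S : Sec22 D d) {p q r : SecG D d} (hl : ComList (secSet D d) [p, q, r]) :
    ∃ u v w, ComList (secSet D d) [p, q, r, u, v, w] ∧ [p, q, r, u, v, w].prod = 1 := by
  obtain ⟨a, b, ⟨P⟩⟩ := exists_pre S.type (secGrp S.setting.grp)
  have hp : IsPrimitiveUnderConj (secSet D d \ {1}) := S.sec_eq.symm ▸ S.prim
  rw [← S.sec_eq] at hl ⊢
  obtain ⟨g, hg⟩ := hp.1 p (hl.mem p (by simp)) a P.mema
  have hc := hl.conj P.grp.2.1 g
  simp only [List.map_cons, List.map_nil, MulAut.conj_apply, hg] at hc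
  have hn := hc.nodup
  simp only [List.nodup_cons, List.mem_cons, List.not_mem_nil, or_false, not_or, not_false_iff, List.nodup_nil,
    and_true] at hn
  obtain ⟨u, v, w, hl', hp'⟩ := six_exists hp P
    (p := g * q * g⁻¹) (q := g * r * g⁻¹)
    ⟨hc.mem _ (by simp), Ne.symm hn.1.1, hc.comm a (by simp) _ (by simp)⟩
    ⟨hc.mem _ (by simp), Ne.symm hn.1.2, hc.comm a (by simp) _ (by simp)⟩
    hn.2 (hc.comm _ (by simp) _ (by simp))
  have h := hl'.conj P.grp.2.1 g⁻¹
  have e : [a, g * q * g⁻¹, g * r * g⁻¹, u, v, w].map (MulAut.conj g⁻¹) =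
      [p, q, r, g⁻¹ * u * g, g⁻¹ * v * g, g⁻¹ * w * g] := by
    simp only [List.map_cons, List.map_nil, MulAut.conj_apply, ← hg]
    simp [mul_assoc]
  refine ⟨g⁻¹ * u * g, g⁻¹ * v * g, g⁻¹ * w * g, e ▸ h, ?_⟩
  rw [← e, ← map_list_prod, hp', map_one]

theorem pick_exists (S : Sec22 D d) (q : SecG D d) :
    ∃ x : G, q ∈ secSet D d → ∃ hx : x ∈ nb D d, im hx = q := by
  by_cases h : q ∈ secSet D d
  · obtain ⟨x, hx, rfl⟩ := exists_of_mem_sec (S.sec_eq.symm ▸ h : q ∈ secSet D d \ {1})
    exact ⟨x, fun _ => ⟨hx.1, rfl⟩⟩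
  · exact ⟨1, fun h' => absurd h' h⟩

/-- A chosen member over a member of the section. -/
noncomputable def pick (S : Sec22 D d) (q : SecG D d) : G := Classical.choose (pick_exists S q)

theorem pick_mem (S : Sec22 D d) {q : SecG D d} (h : q ∈ secSet D d) : pick S q ∈ nb D d :=
  (Classical.choose_spec (pick_exists S q) h).1

theorem pick_im (S : Sec22 D d) {q : SecG D d} (h : q ∈ secSet D d) : im (pick_mem S h) = q :=
  (Classical.choose_spec (pick_exists S q) h).2

theorem pick_com (S : Sec22 D d) {l : List (SecG D d)} (hl : ComList (secSet D d) l) :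
    ComList D (d :: l.map (pick S)) := by
  have hc : ∀ p ∈ l, ∀ q ∈ l, Commute (pick S p) (pick S q) := fun p hp q hq => by
    rw [← S.comm_iff (pick_mem S (hl.mem p hp)) (pick_mem S (hl.mem q hq)), pick_im S (hl.mem p hp),
      pick_im S (hl.mem q hq)]
    exact hl.comm p hp q hq
  refine ⟨List.nodup_cons.2 ⟨fun h => ?_, ?_⟩, ?_, ?_⟩
  · obtain ⟨q, hq, e⟩ := List.mem_map.1 h
    exact (pick_mem S (hl.mem q hq)).2.1 e
  · exact hl.nodup.map_on fun p hp q hq e => by
      rw [← pick_im S (hl.mem p hp), ← pick_im S (hl.mem q hq)]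
      exact congrArg QuotientGroup.mk (Subtype.ext e)
  · intro x hx
    rcases List.mem_cons.1 hx with rfl | h
    · exact S.mem
    · obtain ⟨q, hq, rfl⟩ := List.mem_map.1 h
      exact (pick_mem S (hl.mem q hq)).1
  · intro x hx y hy
    rcases List.mem_cons.1 hx with rfl | h <;> rcases List.mem_cons.1 hy with rfl | h'
    · exact Commute.refl _
    · obtain ⟨q, hq, rfl⟩ := List.mem_map.1 h'
      exact (pick_mem S (hl.mem q hq)).2.2
    · obtain ⟨q, hq, rfl⟩ := List.mem_map.1 h
      exact (pick_mem S (hl.mem q hq)).2.2.symm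
    · obtain ⟨q, hq, rfl⟩ := List.mem_map.1 h
      obtain ⟨p, hp, rfl⟩ := List.mem_map.1 h'
      exact hc q hq p hp

theorem pick_prod (S : Sec22 D d) : ∀ {l : List (SecG D d)}, (∀ q ∈ l, q ∈ secSet D d) →
    ∃ h : (l.map (pick S)).prod ∈ Subgroup.closure (nb D d),
      (QuotientGroup.mk ⟨(l.map (pick S)).prod, h⟩ : SecG D d) = l.prod
  | [], _ => ⟨one_mem _, rfl⟩
  | q :: l, hl => by
    obtain ⟨h, e⟩ := pick_prod S (l := l) fun x hx => hl x (List.mem_cons_of_mem _ hx)
    refine ⟨?_, ?_⟩
    · rw [List.map_cons, List.prod_cons]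
      exact mul_mem (Subgroup.subset_closure (pick_mem S (hl q List.mem_cons_self))) h
    · conv_rhs => rw [List.prod_cons, ← e, ← pick_im S (hl q List.mem_cons_self)]
      rfl

/-- An involution commuting with the member. -/
theorem involution_at (S : Sec22 D d) (hZ : Subgroup.center G = ⊥) {x : G} (hx : orderOf x = 2)
    (hxd : Commute x d) : ∃ l, ComList D l ∧ 1 ≤ l.length ∧ l.length ≤ 3 ∧ l.prod = x := by
  have hne : x ≠ 1 := fun e => by simp [e] at hx
  have hxx : x * x = 1 := by rw [← pow_two, ← hx, pow_orderOf_eq_one]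
  have hH : x ∈ Subgroup.closure (nb D d) := by
    rw [← S.centralizer_eq hZ, Subgroup.mem_centralizer_singleton_iff]; exact hxd.eq
  set q : SecG D d := QuotientGroup.mk ⟨x, hH⟩ with hq
  have hcentral : ∀ (z : G) (hz : z ∈ Subgroup.closure (nb D d)), (QuotientGroup.mk ⟨z, hz⟩ : SecG D d) = 1 →
      z = 1 ∨ z = d := fun z hz h => S.fix_all hZ (S.closure_comm hz).symm fun f hf => (congrArg Subtype.val
        (Subgroup.mem_center_iff.1 ((QuotientGroup.eq_one_iff _).1 h) ⟨f, Subgroup.subset_closure hf⟩)).symm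
  by_cases hq1 : q = 1
  · refine ⟨[d], ⟨by simp, by simp [S.mem], by simp⟩, le_rfl, by simp, ?_⟩
    rw [List.prod_singleton]
    exact ((hcentral x hH hq1).resolve_left hne).symm
  have hq2 : orderOf q = 2 := orderOf_eq_prime (by
    rw [hq, ← QuotientGroup.mk_pow, show (⟨x, hH⟩ : ↥(Subgroup.closure (nb D d))) ^ 2 = 1 from
      Subtype.ext (by simpa [pow_two] using hxx), QuotientGroup.mk_one]) hq1
  obtain ⟨l, hl, h1, h3, hp⟩ := involution_factor S.grp S.prim S.type hq2
  obtain ⟨hy, ey⟩ := pick_prod S hl.mem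
  set y := (l.map (pick S)).prod with hydef
  have hcl := pick_com S hl
  have hyy : y * y = 1 := hcl.tail.prod_sq S.set3
  have hyd : Commute d y := Commute.list_prod_right _ _ fun z hz => hcl.comm d (by simp) z (List.mem_cons_of_mem _ hz)
  have hyx : (QuotientGroup.mk ⟨y * x, mul_mem hy hH⟩ : SecG D d) = 1 := by
    rw [show (⟨y * x, mul_mem hy hH⟩ : ↥(Subgroup.closure (nb D d))) = ⟨y, hy⟩ * ⟨x, hH⟩ from rfl,
      QuotientGroup.mk_mul, ey, hp, hq, ← QuotientGroup.mk_mul,
      show (⟨x, hH⟩ * ⟨x, hH⟩ : ↥(Subgroup.closure (nb D d))) = 1 from Subtype.ext hxx, QuotientGroup.mk_one]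
  have hyxy : y * (y * x) = x := by rw [← mul_assoc, hyy, one_mul]
  rcases hcentral _ _ hyx with h | h
  · exact ⟨l.map (pick S), hcl.tail, by simpa using h1, by simpa using h3, by
      rw [← hydef, ← hyxy, h, mul_one]⟩
  have hx' : x = y * d := by rw [← h, hyxy]
  by_cases hlen : l.length ≤ 2
  · exact ⟨d :: l.map (pick S), hcl, by simp, by simp; omega, by
      rw [List.prod_cons, ← hydef, hyd.eq, ← hx']⟩
  obtain ⟨a, b, c, rfl⟩ := List.length_eq_three.1 (show l.length = 3 by omega)
  obtain ⟨u, v, w, h6, hp6⟩ := six_through S hl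
  obtain ⟨hy6, ey6⟩ := pick_prod S h6.mem
  have hc6 := pick_com S h6
  have hv : ([a, b, c, u, v, w].map (pick S)).prod = d := by
    refine (hcentral _ hy6 (ey6.trans hp6)).resolve_left ?_
    exact S.noRel_six _ hc6.tail rfl
  have hz : ([u, v, w].map (pick S)).prod = x := by
    have e : y * ([u, v, w].map (pick S)).prod = d := by
      rw [hydef, ← List.prod_append, ← List.map_append]
      exact hv
    calc _ = y * y * ([u, v, w].map (pick S)).prod := by rw [hyy, one_mul]
      _ = y * d := by rw [mul_assoc, e]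
      _ = x := hx'.symm
  refine ⟨[u, v, w].map (pick S), ?_, by simp, by simp, hz⟩
  refine hc6.sub ?_ fun z hz => ?_
  · exact hc6.nodup.sublist (List.Sublist.cons _ (List.Sublist.cons _ (List.Sublist.cons _ (List.Sublist.cons _
      (List.Sublist.refl _)))))
  · simp only [List.map_cons, List.map_nil, List.mem_cons, List.not_mem_nil, or_false] at hz ⊢
    tauto

/-- Every involution is a product of one, two or three commuting members. -/
theorem involution_factor23 (S : Sec22 D d) (hZ : Subgroup.center G = ⊥) {x : G} (hx : orderOf x = 2) :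
    ∃ l, ComList D l ∧ 1 ≤ l.length ∧ l.length ≤ 3 ∧ l.prod = x := by
  obtain ⟨y, hy, hxy⟩ := S.exists_fixed (x := x) (by rw [← pow_two, ← hx, pow_orderOf_eq_one])
  obtain ⟨g, hg⟩ := class_trans S.setting.cls hy S.mem
  obtain ⟨l, hl, h1, h3, hp⟩ := involution_at S hZ (x := MulAut.conj g x)
    (by rw [MulEquiv.orderOf_eq]; exact hx) (hg ▸ commute_conj_iff.2 hxy)
  refine ⟨l.map (MulAut.conj g⁻¹), hl.conj S.setting.grp.2.1 g⁻¹, by simpa using h1, by simpa using h3, ?_⟩
  rw [← map_list_prod, hp, MulAut.conj_apply, MulAut.conj_apply]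
  group

/-- A short product of commuting members is an involution. -/
theorem orderOf_prod (S : Sec22 D d) {l : List G} (hl : ComList D l) (h1 : 1 ≤ l.length) (h3 : l.length ≤ 3) :
    orderOf l.prod = 2 := by
  refine orderOf_eq_prime (by rw [pow_two]; exact hl.prod_sq S.set3) fun e => ?_
  match l, hl, h1, h3, e with
  | [x], hl, _, _, e => exact CfsgLib.ThreeTrans.ne_one S.set3 (hl.mem x (by simp)) (by simpa using e)
  | [x, y], hl, _, _, e => exact noRel_two S.set3 _ hl rfl e
  | [x, y, z], hl, _, _, e => exact noRel S le_rfl (by norm_num) _ hl rfl e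
  | _ :: _ :: _ :: _ :: _, _, _, h3, _ => simp only [List.length_cons] at h3; omega

/-- The length of a short factorisation is determined. -/
theorem length_eq (S : Sec22 D d) {l l' : List G} (h : ComList D l) (h' : ComList D l') (h1 : 1 ≤ l.length)
    (h3 : l.length ≤ 3) (h1' : 1 ≤ l'.length) (h3' : l'.length ≤ 3) (e : l.prod = l'.prod) :
    l.length = l'.length := by
  have k3 := noRel S (k := 3) le_rfl (by norm_num)
  have k4 := noRel S (k := 4) (by norm_num) (by norm_num)
  have k5 := noRel S (k := 5) (by norm_num) (by norm_num)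
  by_contra hne
  rcases Nat.lt_or_gt_of_ne hne with q | q
  · exact length_unique S.set3 k3 k4 k5 h h' h1 q h3' e
  · exact length_unique S.set3 k3 k4 k5 h' h h1' q h3 e.symm

/-- There are commuting triples. -/
theorem exists_triple (S : Sec22 D d) : ∃ y z : G, ComList D [d, y, z] := by
  obtain ⟨p, hp, q, hq, hne, hc⟩ := S.width
  refine ⟨pick S p, pick S q, pick_com S (l := [p, q]) ⟨by simpa using hne, List.forall_mem_cons.2 ⟨hp, List.forall_mem_singleton.2 hq⟩, ?_⟩⟩
  simp only [List.mem_cons, List.not_mem_nil, or_false]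
  rintro a (rfl | rfl) b (rfl | rfl)
  exacts [Commute.refl _, hc, hc.symm, Commute.refl _]

/-- Commuting lists of one length at most three are conjugate. -/
theorem list_conj (S : Sec22 D d) {l l' : List G} (h : ComList D l) (h' : ComList D l') (h1 : 1 ≤ l.length)
    (h3 : l.length ≤ 3) (he : l'.length = l.length) : ∃ g : G, l.map (MulAut.conj g) = l' := by
  have hD := S.setting.grp.2.1
  match l, h, l', h', h1, h3, he with
  | [p], h, [q], h', _, _, _ =>
    obtain ⟨g, hg⟩ := class_trans S.setting.cls (h.mem p (by simp)) (h'.mem q (by simp))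
    exact ⟨g, by simp [hg]⟩
  | [p, p'], h, [q, q'], h', _, _, _ =>
    obtain ⟨g, hg⟩ := class_trans S.setting.cls (h.mem p (by simp)) (h'.mem q (by simp))
    have n := h.nodup
    have n' := h'.nodup
    simp only [List.nodup_cons, List.mem_singleton] at n n'
    obtain ⟨k, hk, hkp⟩ := S.setting.commute_transitive (h'.mem q (by simp)) (hD g p' (h.mem p' (by simp)))
      (fun e => n.1 (mul_left_cancel (mul_right_cancel (hg.trans e.symm))))
      (by rw [← hg, commute_conj_iff]; exact h.comm p (by simp) p' (by simp))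
      (h'.mem q' (by simp)) (Ne.symm n'.1) (h'.comm q (by simp) q' (by simp))
    refine ⟨k * g, ?_⟩
    simp only [List.map_cons, List.map_nil, List.cons.injEq, and_true, MulAut.conj_apply]
    refine ⟨?_, ?_⟩
    · rw [show k * g * p * (k * g)⁻¹ = k * (g * p * g⁻¹) * k⁻¹ by group, hg, hk.eq, mul_inv_cancel_right]
    · rw [← hkp]; group
  | [x, y, z], h, [x', y', z'], h', _, _, _ =>
    obtain ⟨g, g1, g2, g3⟩ := S.triple_conj h h'
    exact ⟨g, by simp [g1, g2, g3]⟩
  | _ :: _ :: _ :: _ :: _, _, _, _, _, h3, _ => simp only [List.length_cons] at h3; omega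

end CfsgLib.LocalEvenB.M23
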